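import Cfsg.Agent.H552.Th.FiveGlob
import Cfsg.Agent.H904.SV.Th

/-!
# The elements of order 5, 10, 20 of `Spor.Th` (helper552)

The fields `c5`, `c20`, `n5`, `n20` of `H853.ThC.ThFacts`, the orders divisible by 5, the conjugacy to the words
`X5`, `wd 8`, `wd 14`.
-/

set_option autoImplicit false
set_option maxRecDepth 100000

namespace Cfsg.Agent.H552.ThFive

open Cfsg Subgroup Cfsg.Agent.H49.ThFive
open Cfsg.Agent.Th.IndexUpper (gTh)
open Cfsg.Agent.H904.SV.Th (wd)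
open Cfsg.Agent.Th.Base Cfsg.Agent.Th.Word Cfsg.Agent.CpAutTh.Data

theorem th_card5 (g : Spor.Th) (hg : orderOf g = 5) : Nat.card ↥(centralizer ({g} : Set Spor.Th)) = 3000 := by
  obtain ⟨hf, x, y, z, a, D⟩ := exists_dat
  exact card5 D hg

theorem th_card10 (g : Spor.Th) (hg : orderOf g = 10) : Nat.card ↥(centralizer ({g} : Set Spor.Th)) = 120 := by
  obtain ⟨hf, x, y, z, a, D⟩ := exists_dat
  exact card10 D hg

theorem th_card20 (g : Spor.Th) (hg : orderOf g = 20) : Nat.card ↥(centralizer ({g} : Set Spor.Th)) = 20 := by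
  obtain ⟨hf, x, y, z, a, D⟩ := exists_dat
  exact card20 D hg

theorem th_c5 (g : Spor.Th) (hg : orderOf g = 5) : ¬ 3 ^ 2 ∣ Nat.card ↥(centralizer ({g} : Set Spor.Th)) := by
  rw [th_card5 g hg]
  norm_num

theorem th_c20 (g : Spor.Th) (hg : orderOf g = 20) : ¬ 3 ∣ Nat.card ↥(centralizer ({g} : Set Spor.Th)) := by
  rw [th_card20 g hg]
  norm_num

theorem th_n5 : 3000 * Nat.card {g : Spor.Th // orderOf g = 5} ≤ Nat.card Spor.Th := by
  obtain ⟨hf, x, y, z, a, D⟩ := exists_dat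
  exact n5 D

theorem th_n20 : 20 * Nat.card {g : Spor.Th // orderOf g = 20} ≤ Nat.card Spor.Th := by
  obtain ⟨hf, x, y, z, a, D⟩ := exists_dat
  exact n20 D

theorem th_ord5 (g : Spor.Th) (h5 : 5 ∣ orderOf g) (h3 : ¬ 3 ∣ orderOf g) :
    orderOf g = 5 ∨ orderOf g = 10 ∨ orderOf g = 20 := by
  obtain ⟨hf, x, y, z, a, D⟩ := exists_dat
  exact ord5 D g h5 h3

/-! ### the words -/

theorem ord_wd (i : Fin 21) : orderOf (ev gTh (wd i)) = 2 * Cfsg.Agent.H904.SV.Th.hf i := by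
  have hfin := Cfsg.Agent.H904.SV.Th.fin_th
  obtain ⟨f, F⟩ := Cfsg.Agent.CpAutTh.Local.exists_epi Cfsg.Agent.KFacts.Th.Main.ctx
  exact Cfsg.Agent.H904.SV.Th.ord Cfsg.Agent.KFacts.Th.Main.ctx F i

theorem ord_X5 : orderOf (ev gTh X5) = 5 := by
  obtain ⟨f, F⟩ := Cfsg.Agent.CpAutTh.Local.exists_epi Cfsg.Agent.KFacts.Th.Main.ctx
  have h1 := Cfsg.Agent.CpAutTh.Local.o5 Cfsg.Agent.KFacts.Th.Main.ctx F
  rwa [Subgroup.orderOf_mk] at h1

/-- **one class of elements of order 5** -/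
theorem th_conj5 (g : Spor.Th) (hg : orderOf g = 5) : IsConj g (ev gTh X5) := by
  obtain ⟨hf, x, y, z, a, D⟩ := exists_dat
  exact isConj5 D hg ord_X5

/-- **one class of elements of order 10** -/
theorem th_conj10 (g : Spor.Th) (hg : orderOf g = 10) : IsConj g (ev gTh (wd 8)) := by
  obtain ⟨hf, x, y, z, a, D⟩ := exists_dat
  exact isConj10 D hg (ord_wd 8)

/-- **one class of elements of order 20** -/
theorem th_conj20 (g : Spor.Th) (hg : orderOf g = 20) : IsConj g (ev gTh (wd 14)) := by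
  obtain ⟨hf, x, y, z, a, D⟩ := exists_dat
  exact isConj20 D hg (ord_wd 14)

end Cfsg.Agent.H552.ThFive
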