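import Cfsg.Agent.H552.Th.FiveLoc

/-!
# Elements of order 5, 10, 20 of the Thompson group (helper552)

For `D : H49.ThFive.Dat x y z a` in `K` (`|K| = 90745943887872000`, `z` of order 5):

* `card5`, `card10`, `card20` : the centralizers have orders 3000, 120, 20;
* `isConj10`, `isConj20` : one class of elements of order 10, 20;
* `ord5` : the orders of the elements divisible by 5 and not by 3 are 5, 10, 20.
-/

set_option autoImplicit false
set_option linter.unusedSectionVars false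

namespace Cfsg.Agent.H552.ThFive

open Cfsg Subgroup Cfsg.Agent.ThFive Cfsg.Agent.H49.ThFive

universe u

variable {K : Type u} [Group K] [Finite K] {x y z a : K} (D : Dat x y z a)
include D

theorem card5 {g : K} (hg : orderOf g = 5) : Nat.card ↥(centralizer ({g} : Set K)) = 3000 := by
  obtain ⟨k, hk⟩ := D.all hg
  rw [← D.card_C, ← hk, card_cent_conj]

theorem isConj5 {g g' : K} (hg : orderOf g = 5) (hg' : orderOf g' = 5) : IsConj g g' := by
  obtain ⟨k, hk⟩ := D.all hg
  obtain ⟨k', hk'⟩ := D.all hg'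
  rw [isConj_iff]
  refine ⟨k'⁻¹ * k, ?_⟩
  calc k'⁻¹ * k * g * (k'⁻¹ * k)⁻¹ = k'⁻¹ * (k * g * k⁻¹) * k' := by group
    _ = k'⁻¹ * (k' * g' * k'⁻¹) * k' := by rw [hk, hk']
    _ = g' := by group

/-- the elements with 5-part `z` -/
theorem isConj_of {i j m : ℕ} (hij : ∀ g : K, orderOf g = 5 * m → g ^ i * g ^ j = g)
    (hi : ∀ g : K, orderOf g = 5 * m → orderOf (g ^ i) = 5)
    (hj : ∀ g : K, orderOf g = 5 * m → orderOf (g ^ j) = m)
    (hc : ∀ v v' : ↥(centralizer ({z} : Set K)), orderOf v = m → orderOf v' = m → ∃ c, c * v * c⁻¹ = v')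
    {g g' : K} (hg : orderOf g = 5 * m) (hg' : orderOf g' = 5 * m) : IsConj g g' := by
  have key : ∀ g : K, orderOf g = 5 * m → ∃ k w : K, k * g * k⁻¹ = w ∧ w ^ i = z ∧ orderOf w = 5 * m := by
    intro g hg
    obtain ⟨k, hk⟩ := D.all (hi g hg)
    refine ⟨k, k * g * k⁻¹, rfl, ?_, ?_⟩
    · rw [conj_pow, hk]
    · rw [← hg]
      exact orderOf_injective (MulAut.conj k).toMonoidHom (MulAut.conj k).injective g
  obtain ⟨k, w, hk, hw, hwo⟩ := key g hg
  obtain ⟨k', w', hk', hw', hwo'⟩ := key g' hg'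
  have hwz : w ^ j * z = z * w ^ j := by rw [← hw, ← pow_add, ← pow_add, add_comm]
  have hwz' : w' ^ j * z = z * w' ^ j := by rw [← hw', ← pow_add, ← pow_add, add_comm]
  obtain ⟨c, hc'⟩ := hc ⟨w ^ j, mem_centralizer_singleton_iff.2 hwz⟩ ⟨w' ^ j, mem_centralizer_singleton_iff.2 hwz'⟩
    (by rw [Subgroup.orderOf_mk]; exact hj w hwo) (by rw [Subgroup.orderOf_mk]; exact hj w' hwo')
  have h1 : (c : K) * w ^ j * (c : K)⁻¹ = w' ^ j := congrArg Subtype.val hc'
  have h2 : (c : K) * z * (c : K)⁻¹ = z := by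
    rw [mul_inv_eq_iff_eq_mul]
    exact mem_centralizer_singleton_iff.1 c.2
  have h3 : (c : K) * w * (c : K)⁻¹ = w' := by
    rw [← hij w hwo, ← hij w' hwo', hw, hw', ← h1]
    calc (c : K) * (z * w ^ j) * (c : K)⁻¹ = ((c : K) * z * (c : K)⁻¹) * ((c : K) * w ^ j * (c : K)⁻¹) := by group
      _ = _ := by rw [h2]
  rw [isConj_iff]
  refine ⟨k'⁻¹ * c * k, ?_⟩
  calc k'⁻¹ * c * k * g * (k'⁻¹ * c * k)⁻¹ = k'⁻¹ * (c * (k * g * k⁻¹) * (c : K)⁻¹) * k' := by group
    _ = k'⁻¹ * (k' * g' * k'⁻¹) * k' := by rw [hk, h3, hk']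
    _ = g' := by group

theorem card_of {i j m n : ℕ} (hij : ∀ g : K, orderOf g = 5 * m → g ^ i * g ^ j = g)
    (hi : ∀ g : K, orderOf g = 5 * m → orderOf (g ^ i) = 5)
    (hj : ∀ g : K, orderOf g = 5 * m → orderOf (g ^ j) = m)
    (hc : ∀ v : ↥(centralizer ({z} : Set K)), orderOf v = m →
      Nat.card ↥(centralizer ({v} : Set ↥(centralizer ({z} : Set K)))) = n)
    {g : K} (hg : orderOf g = 5 * m) : Nat.card ↥(centralizer ({g} : Set K)) = n := by
  obtain ⟨k, hk⟩ := D.all (hi g hg)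
  rw [← card_cent_conj k g]
  obtain ⟨w, hw⟩ : ∃ w, w = k * g * k⁻¹ := ⟨_, rfl⟩
  have hwo : orderOf w = 5 * m := by
    rw [← hg, hw]
    exact orderOf_injective (MulAut.conj k).toMonoidHom (MulAut.conj k).injective g
  have hwi : w ^ i = z := by rw [hw, conj_pow, hk]
  rw [← hw]
  have hwz : w ^ j * z = z * w ^ j := by rw [← hwi, ← pow_add, ← pow_add, add_comm]
  rw [← hc ⟨w ^ j, mem_centralizer_singleton_iff.2 hwz⟩ (by rw [Subgroup.orderOf_mk]; exact hj w hwo)]
  refine Nat.card_congr ⟨fun c => ⟨⟨c, ?_⟩, ?_⟩, fun c => ⟨c, ?_⟩, fun c => rfl, fun c => rfl⟩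
  · have h1 : Commute (c : K) w := mem_centralizer_singleton_iff.1 c.2
    rw [mem_centralizer_singleton_iff, ← hwi]
    exact (h1.pow_right i).eq
  · have h1 : Commute (c : K) w := mem_centralizer_singleton_iff.1 c.2
    rw [mem_centralizer_singleton_iff]
    exact Subtype.ext (h1.pow_right j).eq
  · have h1 : Commute ((c : ↥(centralizer ({z} : Set K))) : K) z :=
      mem_centralizer_singleton_iff.1 (c : ↥(centralizer ({z} : Set K))).2
    have h2 : Commute ((c : ↥(centralizer ({z} : Set K))) : K) (w ^ j) :=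
      congrArg Subtype.val (mem_centralizer_singleton_iff.1 c.2)
    have key : ∀ c0 : K, Commute c0 z → Commute c0 (w ^ j) → c0 * w = w * c0 := by
      intro c0 e1 e2
      have e3 := (e1.mul_right e2).eq
      rw [← hwi, hij w hwo] at e3
      exact e3
    exact mem_centralizer_singleton_iff.2 (key _ h1 h2)

theorem pow10 (g : K) (hg : orderOf g = 5 * 2) : g ^ 6 * g ^ 5 = g ∧ orderOf (g ^ 6) = 5 ∧ orderOf (g ^ 5) = 2 := by
  refine ⟨?_, ?_, ?_⟩
  · rw [← pow_add]
    have h1 : g ^ 11 = g ^ 10 * g := pow_succ g 10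
    have h2 : g ^ 10 = 1 := by rw [show (10 : ℕ) = orderOf g by rw [hg], pow_orderOf_eq_one]
    rw [show 6 + 5 = 11 by norm_num, h1, h2, one_mul]
  · rw [orderOf_pow, hg]
    norm_num
  · rw [orderOf_pow, hg]
    norm_num

theorem pow20 (g : K) (hg : orderOf g = 5 * 4) : g ^ 16 * g ^ 5 = g ∧ orderOf (g ^ 16) = 5 ∧ orderOf (g ^ 5) = 4 := by
  refine ⟨?_, ?_, ?_⟩
  · rw [← pow_add]
    have h1 : g ^ 21 = g ^ 20 * g := pow_succ g 20
    have h2 : g ^ 20 = 1 := by rw [show (20 : ℕ) = orderOf g by rw [hg], pow_orderOf_eq_one]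
    rw [show 16 + 5 = 21 by norm_num, h1, h2, one_mul]
  · rw [orderOf_pow, hg]
    norm_num
  · rw [orderOf_pow, hg]
    norm_num

theorem isConj10 {g g' : K} (hg : orderOf g = 10) (hg' : orderOf g' = 10) : IsConj g g' := by
  obtain ⟨N, hN⟩ := D.loc.exists_LC
  exact isConj_of D (m := 2) (fun g hg => (pow10 D g hg).1) (fun g hg => (pow10 D g hg).2.1)
    (fun g hg => (pow10 D g hg).2.2) (fun v v' hv hv' => conj_inv hN D.card_C hv hv') hg hg'

theorem isConj20 {g g' : K} (hg : orderOf g = 20) (hg' : orderOf g' = 20) : IsConj g g' := by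
  obtain ⟨N, hN⟩ := D.loc.exists_LC
  exact isConj_of D (m := 4) (fun g hg => (pow20 D g hg).1) (fun g hg => (pow20 D g hg).2.1)
    (fun g hg => (pow20 D g hg).2.2) (fun v v' hv hv' => conj_four hN D.card_C hv hv') hg hg'

theorem card10 {g : K} (hg : orderOf g = 10) : Nat.card ↥(centralizer ({g} : Set K)) = 120 := by
  obtain ⟨N, hN⟩ := D.loc.exists_LC
  exact card_of D (m := 2) (fun g hg => (pow10 D g hg).1) (fun g hg => (pow10 D g hg).2.1)
    (fun g hg => (pow10 D g hg).2.2) (fun v hv => card_cent_inv hN D.card_C hv) hg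

theorem card20 {g : K} (hg : orderOf g = 20) : Nat.card ↥(centralizer ({g} : Set K)) = 20 := by
  obtain ⟨N, hN⟩ := D.loc.exists_LC
  exact card_of D (m := 4) (fun g hg => (pow20 D g hg).1) (fun g hg => (pow20 D g hg).2.1)
    (fun g hg => (pow20 D g hg).2.2) (fun v hv => card_cent_four hN D.card_C hv) hg

/-- the number of elements of a given order when they form one class -/
theorem number_of {n c : ℕ} (h1 : ∀ g g' : K, orderOf g = n → orderOf g' = n → IsConj g g')
    (h2 : ∀ g : K, orderOf g = n → Nat.card ↥(centralizer ({g} : Set K)) = c) :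
    c * Nat.card {g : K // orderOf g = n} ≤ Nat.card K := by
  by_cases he : ∃ g : K, orderOf g = n
  · obtain ⟨g, hg⟩ := he
    have h3 := class_card g
    rw [h2 g hg] at h3
    have h4 : ({u | ∃ k : K, k * g * k⁻¹ = u} : Set K) = {u | orderOf u = n} := by
      ext u
      constructor
      · rintro ⟨k, rfl⟩
        exact (orderOf_injective (MulAut.conj k).toMonoidHom (MulAut.conj k).injective g).trans hg
      · intro hu
        exact isConj_iff.1 (h1 g u hg hu)
    rw [h4] at h3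
    rw [mul_comm]
    exact le_of_eq h3
  · have : IsEmpty {g : K // orderOf g = n} := ⟨fun g => he ⟨g, g.2⟩⟩
    rw [Nat.card_of_isEmpty, mul_zero]
    exact Nat.zero_le _

theorem n5 : 3000 * Nat.card {g : K // orderOf g = 5} ≤ Nat.card K :=
  number_of D (fun _ _ => isConj5 D) (fun _ => card5 D)

theorem n10 : 120 * Nat.card {g : K // orderOf g = 10} ≤ Nat.card K :=
  number_of D (fun _ _ => isConj10 D) (fun _ => card10 D)

theorem n20 : 20 * Nat.card {g : K // orderOf g = 20} ≤ Nat.card K :=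
  number_of D (fun _ _ => isConj20 D) (fun _ => card20 D)

/-- **the orders divisible by 5 and prime to 3** -/
theorem ord5 (g : K) (h5 : 5 ∣ orderOf g) (h3 : ¬ 3 ∣ orderOf g) :
    orderOf g = 5 ∨ orderOf g = 10 ∨ orderOf g = 20 := by
  have hpos := orderOf_pos g
  obtain ⟨e, m, hm, he⟩ := Nat.exists_eq_pow_mul_and_not_dvd hpos.ne' 5 (by norm_num)
  have hm0 : 0 < m := by
    rcases Nat.eq_zero_or_pos m with h0 | h0
    · rw [h0, mul_zero] at he; omega
    · exact h0
  -- `e = 1`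
  have he1 : e = 1 := by
    have h1 : orderOf (g ^ m) = 5 ^ e := by
      rw [orderOf_pow_of_dvd hm0.ne' ⟨5 ^ e, by rw [he, mul_comm]⟩, he, Nat.mul_div_cancel _ hm0]
    rcases D.five_elt (u := g ^ m) (n := e) (by rw [← h1, pow_orderOf_eq_one]) with h2 | ⟨k, hk⟩
    · rw [h2, orderOf_one] at h1
      rw [← h1, one_mul] at he
      rw [he] at h5
      exact absurd h5 hm
    · have h3 : orderOf (g ^ m) = 5 := by
        rw [← D.oz, ← hk]
        exact (orderOf_injective (MulAut.conj k).toMonoidHom (MulAut.conj k).injective (g ^ m)).symm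
      rw [h3] at h1
      exact (Nat.pow_right_injective (by norm_num : 2 ≤ 5) (by show 5 ^ 1 = 5 ^ e; rw [pow_one]; exact h1)).symm
  subst he1
  rw [pow_one] at he
  have h1 : orderOf (g ^ m) = 5 := by
    rw [orderOf_pow_of_dvd hm0.ne' ⟨5, by rw [he, mul_comm]⟩, he, Nat.mul_div_cancel _ hm0]
  have h2 : orderOf (g ^ 5) = m := by
    rw [orderOf_pow_of_dvd (by norm_num) ⟨m, he⟩, he, Nat.mul_div_cancel_left _ (by norm_num)]
  obtain ⟨k, hk⟩ := D.all h1
  obtain ⟨w, hw⟩ : ∃ w, w = k * g ^ 5 * k⁻¹ := ⟨_, rfl⟩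
  have hwo : orderOf w = m := by
    rw [← h2, hw]
    exact orderOf_injective (MulAut.conj k).toMonoidHom (MulAut.conj k).injective (g ^ 5)
  have hwz : w * z = z * w := by
    rw [hw, ← hk]
    calc k * g ^ 5 * k⁻¹ * (k * g ^ m * k⁻¹) = k * (g ^ 5 * g ^ m) * k⁻¹ := by group
      _ = k * (g ^ m * g ^ 5) * k⁻¹ := by rw [← pow_add, add_comm, pow_add]
      _ = _ := by group
  obtain ⟨N, hN⟩ := D.loc.exists_LC
  have hwo' : orderOf (⟨w, mem_centralizer_singleton_iff.2 hwz⟩ : ↥(centralizer ({z} : Set K))) = m := by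
    rw [Subgroup.orderOf_mk, hwo]
  have hd : m ∣ 3000 := by
    rw [← D.card_C, ← hwo']
    exact orderOf_dvd_natCard _
  have h3m : ¬ 3 ∣ m := fun h => h3 (by rw [he]; exact h.mul_left 5)
  have hd8 : m ∣ 8 := by
    have c1 : Nat.Coprime m 125 := by
      rw [show (125 : ℕ) = 5 ^ 3 by norm_num]
      exact Nat.Coprime.pow_right 3 ((Nat.coprime_comm.1 ((by norm_num : Nat.Prime 5).coprime_iff_not_dvd.2 hm)))
    have c2 : Nat.Coprime m 3 := Nat.coprime_comm.1 ((by norm_num : Nat.Prime 3).coprime_iff_not_dvd.2 h3m)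
    exact c2.dvd_of_dvd_mul_left (c1.dvd_of_dvd_mul_left (by
      rw [show 125 * (3 * 8) = 3000 by norm_num]; exact hd))
  have h8 : m ≠ 8 := by
    rintro rfl
    exact no_eight hN D.card_C _ hwo'
  have hle := Nat.le_of_dvd (by norm_num) hd8
  interval_cases m <;> omega

end Cfsg.Agent.H552.ThFive
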