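import Cfsg.Agent.H49.ThFiveDat

/-!
# The centralizer of an element of order 5 of the Thompson group: elements of order 4 (helper552)

`H = C(z)` of order 3000 (`H49.ThFive.Loc`).

* `cent25` : `|C_H(u)| = 25` for `u` in `P` outside `⟨z⟩`;
* `eig` : an element `v` of order 4 has an eigenvector `v u v⁻¹ = u ^ 2`;
* `card_four` : at most 150 elements of order 4;
* `no_three`, `no_eight` : no element of order 3 commutes with an element of order 4, no element of order 8.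
-/

set_option autoImplicit false
set_option linter.unusedSectionVars false

namespace Cfsg.Agent.H552.ThFive

open Cfsg Subgroup Cfsg.Agent.ThFive Cfsg.Agent.H49.ThFive

universe u

/-- the size of a conjugacy class -/
theorem class_card {K : Type u} [Group K] [Finite K] (z : K) :
    ({u | ∃ g : K, g * z * g⁻¹ = u} : Set K).ncard * Nat.card ↥(centralizer ({z} : Set K)) = Nat.card K := by
  let act : MulAction (⊤ : Subgroup K) K := MulAction.compHom K (MulAut.conj.comp (⊤ : Subgroup K).subtype)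
  have h1 : MulAction.orbit (⊤ : Subgroup K) z = {u | ∃ g : K, g * z * g⁻¹ = u} := by
    ext u
    constructor
    · rintro ⟨g, rfl⟩
      exact ⟨g, rfl⟩
    · rintro ⟨g, rfl⟩
      exact ⟨⟨g, mem_top g⟩, rfl⟩
  have h2 : (MulAction.stabilizer (⊤ : Subgroup K) z).map (⊤ : Subgroup K).subtype = centralizer ({z} : Set K) := by
    ext u
    rw [mem_centralizer_singleton_iff]
    constructor
    · rintro ⟨g, hg, rfl⟩
      have h3 : (g : K) * z * (g : K)⁻¹ = z := hg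
      rw [mul_inv_eq_iff_eq_mul] at h3
      exact h3
    · intro hu
      refine ⟨⟨u, mem_top u⟩, ?_, rfl⟩
      change u * z * u⁻¹ = z
      rw [hu, mul_inv_cancel_right]
  rw [← h1, ← h2, Subgroup.card_map_of_injective (subtype_injective (⊤ : Subgroup K)),
    ← MulAction.index_stabilizer, mul_comm]
  exact (Subgroup.card_mul_index _).trans Subgroup.card_top

theorem card_cent_conj {G : Type*} [Group G] (g u : G) :
    Nat.card (centralizer ({g * u * g⁻¹} : Set G)) = Nat.card (centralizer ({u} : Set G)) := by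
  refine Nat.card_congr ⟨fun c => ⟨g⁻¹ * c * g, ?_⟩, fun c => ⟨g * c * g⁻¹, ?_⟩, fun c => Subtype.ext ?_,
    fun c => Subtype.ext ?_⟩
  · have h1 : (c : G) * (g * u * g⁻¹) = g * u * g⁻¹ * c := mem_centralizer_singleton_iff.1 c.2
    rw [mem_centralizer_singleton_iff]
    calc g⁻¹ * (c : G) * g * u = g⁻¹ * (c * (g * u * g⁻¹)) * g := by group
      _ = u * (g⁻¹ * (c : G) * g) := by rw [h1]; group
  · have h1 : (c : G) * u = u * c := mem_centralizer_singleton_iff.1 c.2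
    rw [mem_centralizer_singleton_iff]
    calc g * (c : G) * g⁻¹ * (g * u * g⁻¹) = g * (c * u) * g⁻¹ := by group
      _ = g * u * g⁻¹ * (g * c * g⁻¹) := by rw [h1]; group
  · show g * (g⁻¹ * (c : G) * g) * g⁻¹ = c
    group
  · show g⁻¹ * (g * (c : G) * g⁻¹) * g = c
    group

section loc

variable {H : Type u} [Group H] [Finite H] {x y z s : H} {N : Subgroup H} (h : LC x y z s N)
include h

theorem commP {a b : H} (ha : a ∈ PP x y z) (hb : b ∈ PP x y z) : ∃ k : ℤ, a * b = b * a * z ^ k := by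
  obtain ⟨k, hk⟩ := mem_zpowers_iff.1 (h.comm_mem (h.PN ha) (h.PN hb))
  refine ⟨k, ?_⟩
  have h1 : b * a * z ^ k = z ^ k * (b * a) := ((h.toLoc.zcomm (b * a)).zpow_right k).eq
  rw [h1, hk]
  group

theorem ncard_PZ : ((PP x y z : Set H) \ (zpowers z : Set H)).ncard = 120 := by
  have h1 : (zpowers z : Set H) ⊆ (PP x y z : Set H) := h.toLoc.ZP
  rw [Set.ncard_sdiff h1 (Set.toFinite _)]
  have h2 : (PP x y z : Set H).ncard = 125 := h.toLoc.card_P
  have h3 : (zpowers z : Set H).ncard = 5 := by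
    have : Nat.card (zpowers z) = 5 := by rw [Nat.card_zpowers, h.oz]
    exact this
  rw [h2, h3]

theorem not_mem_conj {g u : H} (hu : u ∉ zpowers z) : g * u * g⁻¹ ∉ zpowers z := by
  intro h1
  obtain ⟨k, hk⟩ := mem_zpowers_iff.1 h1
  apply hu
  refine mem_zpowers_iff.2 ⟨k, ?_⟩
  have h2 : u = g⁻¹ * (g * u * g⁻¹) * g := by group
  rw [h2, ← hk, ((h.toLoc.zcomm g⁻¹).zpow_right k).eq, inv_mul_cancel_right]

theorem y_not_mem : y ∉ zpowers z := by
  intro h1
  obtain ⟨k, hk⟩ := mem_zpowers_iff.1 h1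
  apply h.toLoc.x_not_comm
  rw [← hk]
  exact ((h.toLoc.zcomm x).zpow_right k).eq

theorem cent_y (hH : Nat.card H = 3000) : Nat.card ↥(centralizer ({y} : Set H)) = 25 := by
  have h1 := class_card y
  have h2 : ({u | ∃ g : H, g * y * g⁻¹ = u} : Set H) = (PP x y z : Set H) \ (zpowers z : Set H) := by
    ext u
    constructor
    · rintro ⟨g, rfl⟩
      exact ⟨h.P_norm g h.toLoc.yP, not_mem_conj h (y_not_mem h)⟩
    · rintro ⟨h3, h4⟩
      exact h.conj_y h3 h4
  rw [h2, ncard_PZ h, hH] at h1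
  omega

theorem cent25 (hH : Nat.card H = 3000) {u : H} (hu : u ∈ PP x y z) (huz : u ∉ zpowers z) :
    Nat.card ↥(centralizer ({u} : Set H)) = 25 := by
  obtain ⟨g, rfl⟩ := h.conj_y hu huz
  rw [card_cent_conj, cent_y h hH]

/-- elements of order prime to 5 do not commute with elements of `P` outside `⟨z⟩` -/
theorem free (hH : Nat.card H = 3000) {u w : H} (hu : u ∈ PP x y z) (huz : u ∉ zpowers z) (hw : w * u = u * w)
    (h5 : Nat.Coprime (orderOf w) 5) : w = 1 := by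
  have h1 : orderOf w ∣ 25 := by
    rw [← cent25 h hH hu huz]
    exact Subgroup.orderOf_dvd_natCard _ (mem_centralizer_singleton_iff.2 hw)
  have h2 : Nat.Coprime (orderOf w) 25 := by
    have := Nat.Coprime.pow_right 2 h5
    norm_num at this
    exact this
  exact orderOf_eq_one_iff.1 (Nat.Coprime.eq_one_of_dvd h2 h1)

theorem z_pow_eq_one {k : ℤ} : z ^ k = 1 ↔ (5 : ℤ) ∣ k := by
  rw [← orderOf_dvd_iff_zpow_eq_one, h.oz]
  rfl

/-- an involution inverts `P` modulo `⟨z⟩` -/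
theorem inv_mod (hH : Nat.card H = 3000) {t : H} (ht : orderOf t = 2) {u : H} (hu : u ∈ PP x y z) :
    u * (t * u * t⁻¹) ∈ zpowers z := by
  by_contra hm
  have htt : t * t = 1 := by rw [← pow_two, ← ht, pow_orderOf_eq_one]
  have hti : t⁻¹ = t := inv_eq_of_mul_eq_one_left htt
  obtain ⟨k, hk⟩ := commP h hu (h.P_norm t hu)
  have h1 : t * (u * (t * u * t⁻¹)) * t⁻¹ = (t * u * t⁻¹) * u := by
    rw [hti]
    calc t * (u * (t * u * t)) * t = t * u * t * u * (t * t) := by group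
      _ = _ := by rw [htt, mul_one]
  have h2 : t * (u * (t * u * t⁻¹)) * t⁻¹ * z ^ k = u * (t * u * t⁻¹) := by rw [h1, hk]
  obtain ⟨m, hme⟩ : ∃ m, m = u * (t * u * t⁻¹) := ⟨_, rfl⟩
  rw [← hme] at h2 hm
  have h3 : t * (t * m * t⁻¹ * z ^ k) * t⁻¹ = t * m * t⁻¹ := by rw [h2]
  have h4 : t * (t * m * t⁻¹ * z ^ k) * t⁻¹ = m * z ^ k := by
    rw [hti]
    calc t * (t * m * t * z ^ k) * t = (t * t) * m * t * (z ^ k * t) := by group
      _ = (t * t) * m * t * (t * z ^ k) := by rw [((h.toLoc.zcomm t).zpow_right k).eq]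
      _ = (t * t) * m * (t * t) * z ^ k := by group
      _ = m * z ^ k := by rw [htt]; group
  have h5 : m * z ^ k * z ^ k = m := by rw [← h4, h3, h2]
  have h6 : z ^ (2 * k) = 1 := by
    rw [two_mul, zpow_add]
    have := h5
    rw [mul_assoc] at this
    exact mul_eq_left.1 this
  have h7 : (5 : ℤ) ∣ k := by
    have := (z_pow_eq_one h).1 h6
    omega
  rw [(z_pow_eq_one h).2 h7, mul_one] at h2
  have h8 : t * m = m * t := by
    rw [mul_inv_eq_iff_eq_mul] at h2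
    exact h2
  have h9 := free h hH (u := m) (w := t) (by rw [hme]; exact mul_mem hu (h.P_norm t hu)) hm h8 (by rw [ht]; norm_num)
  rw [h9, orderOf_one] at ht
  norm_num at ht

/-- an element of order 4 has an eigenvector for the eigenvalue 2 -/
theorem eig (hH : Nat.card H = 3000) {v : H} (hv : orderOf v = 4) :
    ∃ u ∈ PP x y z, u ∉ zpowers z ∧ v * u * v⁻¹ = u ^ 2 := by
  have hZ := h.core.toSit.normalZ
  have ht : orderOf (v ^ 2) = 2 := by
    rw [orderOf_pow, hv]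
    norm_num
  -- step 3
  obtain ⟨u0, hu0, hm0⟩ : ∃ u0 ∈ PP x y z, v * u0 * v⁻¹ * u0 ^ 2 ∉ zpowers z := by
    by_contra hcon
    push Not at hcon
    obtain ⟨i, hi⟩ := mem_zpowers_iff.1 (hcon x h.toLoc.xP)
    obtain ⟨j, hj⟩ := mem_zpowers_iff.1 (hcon y h.toLoc.yP)
    have h1 : v * x * v⁻¹ = z ^ i * x ^ (-2 : ℤ) := by
      rw [hi, mul_assoc (v * x * v⁻¹)]
      rw [show x ^ 2 * x ^ (-2 : ℤ) = 1 by group, mul_one]
    have h2 : v * y * v⁻¹ = z ^ j * y ^ (-2 : ℤ) := by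
      rw [hj, mul_assoc (v * y * v⁻¹)]
      rw [show y ^ 2 * y ^ (-2 : ℤ) = 1 by group, mul_one]
    have h3 : (v * x * v⁻¹) * (v * y * v⁻¹) = (v * y * v⁻¹) * (v * x * v⁻¹) * z := by
      calc (v * x * v⁻¹) * (v * y * v⁻¹) = v * (x * y) * v⁻¹ := by group
        _ = v * (y * x * z) * v⁻¹ := by rw [h.xy]
        _ = v * y * x * (z * v⁻¹) := by group
        _ = v * y * x * (v⁻¹ * z) := by rw [(h.toLoc.zcomm v⁻¹).eq]
        _ = _ := by group
    rw [h1, h2] at h3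
    have zc : ∀ (g : H) (k : ℤ), g * z ^ k = z ^ k * g := fun g k => (h.toLoc.zcomm g).zpow_right k
    have h4 : z ^ i * x ^ (-2 : ℤ) * (z ^ j * y ^ (-2 : ℤ)) = x ^ (-2 : ℤ) * y ^ (-2 : ℤ) * z ^ (i + j) := by
      calc z ^ i * x ^ (-2 : ℤ) * (z ^ j * y ^ (-2 : ℤ)) = z ^ i * (x ^ (-2 : ℤ) * z ^ j) * y ^ (-2 : ℤ) := by group
        _ = z ^ i * (z ^ j * x ^ (-2 : ℤ)) * y ^ (-2 : ℤ) := by rw [zc]
        _ = z ^ (i + j) * (x ^ (-2 : ℤ) * y ^ (-2 : ℤ)) := by rw [zpow_add]; group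
        _ = _ := by rw [zc]
    have h5 : z ^ j * y ^ (-2 : ℤ) * (z ^ i * x ^ (-2 : ℤ)) * z = x ^ (-2 : ℤ) * y ^ (-2 : ℤ) * z ^ (i + j - 3) := by
      calc z ^ j * y ^ (-2 : ℤ) * (z ^ i * x ^ (-2 : ℤ)) * z
          = z ^ j * (y ^ (-2 : ℤ) * z ^ i) * x ^ (-2 : ℤ) * z := by group
        _ = z ^ j * (z ^ i * y ^ (-2 : ℤ)) * x ^ (-2 : ℤ) * z := by rw [zc]
        _ = z ^ (i + j) * (y ^ (-2 : ℤ) * x ^ (-2 : ℤ)) * z := by rw [zpow_add, zpow_mul_comm z i j]; group
        _ = z ^ (i + j) * (x ^ (-2 : ℤ) * y ^ (-2 : ℤ) * z ^ (-(-2 * -2) : ℤ)) * z := by rw [h.toLoc.comm]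
        _ = (x ^ (-2 : ℤ) * y ^ (-2 : ℤ) * z ^ (-(-2 * -2) : ℤ)) * z ^ (i + j) * z := by rw [← zc (_ * _) (i + j)]
        _ = _ := by
          rw [mul_assoc, mul_assoc (x ^ (-2 : ℤ) * y ^ (-2 : ℤ)), ← zpow_add_one, ← zpow_add]
          congr 2
          ring
    rw [h4, h5] at h3
    have h6 : z ^ (3 : ℤ) = 1 := by
      have h7 := mul_left_cancel h3
      have h8 : z ^ (i + j) = z ^ (i + j - 3) * z ^ (3 : ℤ) := by rw [← zpow_add]; congr 1; ring
      rw [h8] at h7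
      exact mul_eq_left.1 h7
    have := (z_pow_eq_one h).1 h6
    omega
  -- step 4
  obtain ⟨q, hq⟩ : ∃ q : H →* H ⧸ zpowers z, q = QuotientGroup.mk' (zpowers z) := ⟨_, rfl⟩
  have hq1 : ∀ a, q a = 1 ↔ a ∈ zpowers z := by
    intro a
    rw [hq]
    exact QuotientGroup.eq_one_iff a
  have qz : q z = 1 := (hq1 z).2 (mem_zpowers z)
  have qc : ∀ a ∈ PP x y z, ∀ b ∈ PP x y z, Commute (q a) (q b) := by
    intro a ha b hb
    obtain ⟨k, hk⟩ := commP h ha hb
    show q a * q b = q b * q a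
    rw [← map_mul, hk, map_mul, map_zpow, qz, one_zpow, mul_one, map_mul]
  have hA : v * u0 * v⁻¹ ∈ PP x y z := h.P_norm v hu0
  have hAB := qc _ hA _ hu0
  have hB5 : (q u0) ^ 5 = 1 := by rw [← map_pow, h.exp hu0, map_one]
  have hB4 : (q u0) ^ 4 = (q u0)⁻¹ := by
    rw [eq_inv_iff_mul_eq_one, ← pow_succ, hB5]
  have htu : q (v ^ 2 * u0 * (v ^ 2)⁻¹) = (q u0)⁻¹ := by
    rw [eq_inv_iff_mul_eq_one, ← map_mul, hq1]
    have h1 := inv_mod h hH ht hu0
    obtain ⟨k, hk⟩ := commP h hu0 (h.P_norm (v ^ 2) hu0)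
    have h2 : v ^ 2 * u0 * (v ^ 2)⁻¹ * u0 = u0 * (v ^ 2 * u0 * (v ^ 2)⁻¹) * z ^ (-k) := by
      rw [hk]
      group
    rw [h2]
    exact mul_mem h1 (zpow_mem (mem_zpowers z) _)
  obtain ⟨m0, hm0e⟩ : ∃ m0, m0 = v * u0 * v⁻¹ * u0 ^ 2 := ⟨_, rfl⟩
  rw [← hm0e] at hm0
  have h1 : q (v * m0 * v⁻¹) = q (m0 ^ 2) := by
    have h2 : v * m0 * v⁻¹ = (v ^ 2 * u0 * (v ^ 2)⁻¹) * (v * u0 * v⁻¹) ^ 2 := by
      rw [hm0e, conj_pow, pow_two v]
      group
    obtain ⟨a, ha⟩ : ∃ a, a = v * u0 * v⁻¹ := ⟨_, rfl⟩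
    rw [h2, map_mul, htu, hm0e, ← ha, map_pow, map_pow, map_mul, map_pow]
    rw [← ha] at hAB
    rw [(hAB.pow_right 2).mul_pow, ← pow_mul, hB4]
    exact ((hAB.inv_right).pow_left 2).eq.symm
  obtain ⟨k, hk⟩ : ∃ k : ℤ, v * m0 * v⁻¹ = m0 ^ 2 * z ^ k := by
    have h2 : q ((m0 ^ 2)⁻¹ * (v * m0 * v⁻¹)) = 1 := by rw [map_mul, map_inv, h1, inv_mul_cancel]
    obtain ⟨k, hk⟩ := mem_zpowers_iff.1 ((hq1 _).1 h2)
    exact ⟨k, by rw [hk]; group⟩
  have hm0P : m0 ∈ PP x y z := by rw [hm0e]; exact mul_mem hA (pow_mem hu0 2)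
  refine ⟨m0 * z ^ k, mul_mem hm0P (h.toLoc.ZP (zpow_mem (mem_zpowers z) k)), ?_, ?_⟩
  · intro h2
    apply hm0
    have h3 := mul_mem h2 (zpow_mem (mem_zpowers z) (-k))
    rwa [mul_assoc, ← zpow_add, add_neg_cancel, zpow_zero, mul_one] at h3
  · have c : Commute m0 (z ^ k) := (h.toLoc.zcomm m0).zpow_right k
    have c2 : Commute (z ^ k) v⁻¹ := ((h.toLoc.zcomm v⁻¹).zpow_right k).symm
    calc v * (m0 * z ^ k) * v⁻¹ = v * m0 * (z ^ k * v⁻¹) := by group
      _ = v * m0 * (v⁻¹ * z ^ k) := by rw [c2.eq]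
      _ = (v * m0 * v⁻¹) * z ^ k := by group
      _ = m0 ^ 2 * (z ^ k * z ^ k) := by rw [hk, mul_assoc]
      _ = (m0 * z ^ k) ^ 2 := by rw [c.mul_pow, pow_two (z ^ k)]

theorem not_mem_pow {u : H} (hu : u ∈ PP x y z) (huz : u ∉ zpowers z) {n : ℕ} (hn : Nat.Coprime n 5) :
    u ^ n ∉ zpowers z := by
  intro h1
  apply huz
  have h2 := h.exp hu
  obtain ⟨m, hm⟩ := Nat.exists_mul_mod_eq_one_of_coprime hn (by norm_num)
  have h3 : (u ^ n) ^ m = u := by
    rw [← pow_mul, ← Nat.mod_add_div (n * m) 5, hm.2, pow_add, pow_mul, h2, one_pow, mul_one, pow_one]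
  rw [← h3]
  exact pow_mem h1 m

/-- an element commuting with `v` normalizes the eigenspace -/
theorem norm_eig (hH : Nat.card H = 3000) {v w u : H} (hu : u ∈ PP x y z)
    (huz : u ∉ zpowers z) (hvu : v * u * v⁻¹ = u ^ 2) (hwv : w * v = v * w) : ∃ i : ℕ, w * u * w⁻¹ = u ^ i := by
  obtain ⟨u1, hu1⟩ : ∃ u1, u1 = w * u * w⁻¹ := ⟨_, rfl⟩
  have hu1P : u1 ∈ PP x y z := by rw [hu1]; exact h.P_norm w hu
  have h1 : v * u1 * v⁻¹ = u1 ^ 2 := by
    rw [hu1, conj_pow, ← hvu]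
    calc v * (w * u * w⁻¹) * v⁻¹ = (v * w) * u * (v * w)⁻¹ := by group
      _ = (w * v) * u * (w * v)⁻¹ := by rw [hwv]
      _ = _ := by group
  -- `u` and `u1` commute
  obtain ⟨k, hk⟩ := commP h hu hu1P
  have zc : ∀ (g : H) (k : ℤ), g * z ^ k = z ^ k * g := fun g k => (h.toLoc.zcomm g).zpow_right k
  have h2 : u ^ 2 * u1 ^ 2 = u1 ^ 2 * u ^ 2 * z ^ k := by
    rw [← hvu, ← h1]
    calc v * u * v⁻¹ * (v * u1 * v⁻¹) = v * (u * u1) * v⁻¹ := by group
      _ = v * (u1 * u * z ^ k) * v⁻¹ := by rw [hk]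
      _ = v * u1 * u * (z ^ k * v⁻¹) := by group
      _ = v * u1 * u * (v⁻¹ * z ^ k) := by rw [zc v⁻¹ k]
      _ = _ := by group
  have h3 : u ^ 2 * u1 ^ 2 = u1 ^ 2 * u ^ 2 * z ^ (4 * k) := by
    have e1 : u * u1 * u1 = u1 * u1 * u * z ^ (2 * k) := by
      calc u * u1 * u1 = u1 * u * (z ^ k * u1) := by rw [hk]; group
        _ = u1 * u * (u1 * z ^ k) := by rw [zc u1 k]
        _ = u1 * (u * u1) * z ^ k := by group
        _ = u1 * (u1 * u * z ^ k) * z ^ k := by rw [hk]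
        _ = _ := by rw [two_mul, zpow_add]; group
    calc u ^ 2 * u1 ^ 2 = u * (u * u1 * u1) := by rw [pow_two, pow_two]; group
      _ = u * (u1 * u1 * u * z ^ (2 * k)) := by rw [e1]
      _ = (u * u1 * u1) * u * z ^ (2 * k) := by group
      _ = u1 * u1 * u * (z ^ (2 * k) * u) * z ^ (2 * k) := by rw [e1]; group
      _ = u1 * u1 * u * (u * z ^ (2 * k)) * z ^ (2 * k) := by rw [zc u (2 * k)]
      _ = u1 ^ 2 * u ^ 2 * (z ^ (2 * k) * z ^ (2 * k)) := by rw [pow_two, pow_two]; group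
      _ = _ := by rw [← zpow_add]; congr 2; ring
  have h4 : z ^ (3 * k) = 1 := by
    rw [h2] at h3
    have h5 := mul_left_cancel h3
    have h6 : z ^ (4 * k) = z ^ k * z ^ (3 * k) := by rw [← zpow_add]; congr 1; ring
    rw [h6] at h5
    exact mul_eq_left.1 h5.symm
  have h5 : (5 : ℤ) ∣ k := by
    have := (z_pow_eq_one h).1 h4
    omega
  rw [(z_pow_eq_one h).2 h5, mul_one] at hk
  -- `C(u) = ⟨u, z⟩`
  have hou : orderOf u = 5 := by
    have := f5
    refine orderOf_eq_prime (h.exp hu) ?_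
    rintro rfl
    exact huz (one_mem _)
  have hcuz : Commute u z := h.toLoc.zcomm u
  let A : Subgroup H := zpowers u ⊔ zpowers z
  have hA : Nat.card A = 25 := by
    have hd : Disjoint (zpowers u) (zpowers z) := by
      rw [Subgroup.disjoint_def]
      intro a ha hb
      have := f5
      by_contra hne
      obtain ⟨n, rfl⟩ := mem_zpowers_iff.1 ha
      apply huz
      have h6 : ¬ (5 : ℤ) ∣ n := by
        intro h7
        apply hne
        obtain ⟨m, rfl⟩ := h7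
        rw [zpow_mul]
        have : u ^ (5 : ℤ) = 1 := by
          have := h.exp hu
          exact_mod_cast this
        rw [this, one_zpow]
      have h7 : IsCoprime n (5 : ℤ) := by
        rw [isCoprime_comm]
        exact ((Int.prime_iff_natAbs_prime.2 (by norm_num : Nat.Prime (5 : ℤ).natAbs)).coprime_iff_not_dvd).2 h6
      obtain ⟨a', b', hab⟩ := h7
      have h8 : u = (u ^ n) ^ a' * (u ^ (5 : ℤ)) ^ b' := by
        rw [← zpow_mul, ← zpow_mul, ← zpow_add, mul_comm n, mul_comm (5 : ℤ), hab, zpow_one]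
      have h9 : u ^ (5 : ℤ) = 1 := by
        have := h.exp hu
        exact_mod_cast this
      rw [h9, one_zpow, mul_one] at h8
      rw [h8]
      exact zpow_mem hb a'
    have hZ := h.core.toSit.normalZ
    have e := (Subgroup.isComplement'_of_disjoint_and_mul_eq_univ (H := (zpowers u).subgroupOf A)
      (K := (zpowers z).subgroupOf A) ?_ ?_).card_mul_card
    · rw [← e, Nat.card_congr (subgroupOfEquivOfLe (le_sup_left : zpowers u ≤ A)).toEquiv,
        Nat.card_congr (subgroupOfEquivOfLe (le_sup_right : zpowers z ≤ A)).toEquiv, Nat.card_zpowers,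
        Nat.card_zpowers, hou, h.oz]
    · rw [Subgroup.disjoint_def]
      intro a ha hb
      exact Subtype.ext ((Subgroup.disjoint_def.1 hd) ha hb)
    · ext a
      refine ⟨fun _ => Set.mem_univ _, fun _ => ?_⟩
      have h6 := a.2
      obtain ⟨b, hb, c, hc, hbc⟩ := (mem_sup_of_normal_right).1 h6
      exact ⟨⟨b, (le_sup_left : zpowers u ≤ A) hb⟩, hb, ⟨c, (le_sup_right : zpowers z ≤ A) hc⟩, hc, Subtype.ext hbc⟩
  have hAC : A = centralizer ({u} : Set H) := by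
    apply Subgroup.eq_of_le_of_card_ge
    · refine sup_le ?_ ?_
      · rw [zpowers_le]
        exact mem_centralizer_singleton_iff.2 rfl
      · rw [zpowers_le]
        exact mem_centralizer_singleton_iff.2 hcuz.symm.eq
    · rw [hA, cent25 h hH hu huz]
  have hmem : u1 ∈ A := by
    rw [hAC]
    exact mem_centralizer_singleton_iff.2 hk.symm
  have hZ := h.core.toSit.normalZ
  obtain ⟨b, hb, c, hc, hbc⟩ := (mem_sup_of_normal_right).1 hmem
  obtain ⟨i, rfl⟩ := mem_zpowers_iff.1 hb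
  obtain ⟨j, rfl⟩ := mem_zpowers_iff.1 hc
  have hj : z ^ j = 1 := by
    rw [← hbc] at h1
    have e1 : v * (u ^ i * z ^ j) * v⁻¹ = (v * u ^ i * v⁻¹) * z ^ j := by
      calc v * (u ^ i * z ^ j) * v⁻¹ = v * u ^ i * (z ^ j * v⁻¹) := by group
        _ = v * u ^ i * (v⁻¹ * z ^ j) := by rw [zc v⁻¹ j]
        _ = _ := by group
    have e2 : v * u ^ i * v⁻¹ = (u ^ i) ^ 2 := by
      rw [← conj_zpow, hvu, ← zpow_natCast u 2, ← zpow_mul, ← zpow_natCast (u ^ i) 2, ← zpow_mul, mul_comm]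
    have e3 : Commute (u ^ i) (z ^ j) := (hcuz.zpow_right j).zpow_left i
    rw [e1, e2, e3.mul_pow, pow_two (z ^ j)] at h1
    have h6 := mul_left_cancel h1
    exact (mul_eq_left.1 h6.symm)
  rw [hj, mul_one] at hbc
  refine ⟨(i % 5).toNat, ?_⟩
  rw [← hu1, ← hbc, ← zpow_natCast, Int.toNat_of_nonneg (Int.emod_nonneg i (by norm_num))]
  have h6 := zpow_mod_orderOf u i
  rw [hou] at h6
  exact h6.symm

theorem conj_iter {u w : H} {i : ℕ} (hw : w * u * w⁻¹ = u ^ i) (n : ℕ) : w ^ n * u * (w ^ n)⁻¹ = u ^ (i ^ n) := by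
  induction n with
  | zero => simp
  | succ n ih =>
    have h1 : w ^ (n + 1) * u * (w ^ (n + 1))⁻¹ = w * (w ^ n * u * (w ^ n)⁻¹) * w⁻¹ := by
      rw [pow_succ']; group
    rw [h1, ih, ← conj_pow, hw, ← pow_mul, pow_succ, mul_comm]

/-- **no element of order 3 commutes with an element of order 4** -/
theorem no_three (hH : Nat.card H = 3000) {v w : H} (hv : orderOf v = 4) (hw : orderOf w = 3) : w * v ≠ v * w := by
  intro hwv
  obtain ⟨u, hu, huz, hvu⟩ := eig h hH hv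
  obtain ⟨i, hi⟩ := norm_eig h hH hu huz hvu hwv
  have hou : orderOf u = 5 := by
    have := f5
    refine orderOf_eq_prime (h.exp hu) ?_
    rintro rfl
    exact huz (one_mem _)
  have h1 := conj_iter h hi 3
  rw [show w ^ 3 = 1 by rw [← hw, pow_orderOf_eq_one], one_mul, inv_one, mul_one] at h1
  have h2 : i ^ 3 ≡ 1 [MOD 5] := by
    have h3 : u ^ (i ^ 3) = u ^ 1 := by rw [← h1, pow_one]
    rw [pow_eq_pow_iff_modEq, hou] at h3
    exact h3
  have h3 : i % 5 = 1 := by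
    have h4 : (i ^ 3) % 5 = 1 := h2
    rw [Nat.pow_mod] at h4
    have h5 : i % 5 < 5 := Nat.mod_lt _ (by norm_num)
    interval_cases hi5 : i % 5 <;> revert h4 <;> decide
  have h4 : w * u * w⁻¹ = u := by
    rw [hi, ← Nat.mod_add_div i 5, h3, pow_add, pow_mul, h.exp hu, one_pow, pow_one, mul_one]
  have h5 := free h hH hu huz (w := w) (by rw [mul_inv_eq_iff_eq_mul] at h4; exact h4) (by rw [hw]; norm_num)
  rw [h5, orderOf_one] at hw
  norm_num at hw

/-- **no element of order 8** -/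
theorem no_eight (hH : Nat.card H = 3000) (w : H) : orderOf w ≠ 8 := by
  intro hw
  have hv : orderOf (w ^ 2) = 4 := by rw [orderOf_pow, hw]; norm_num
  obtain ⟨u, hu, huz, hvu⟩ := eig h hH hv
  obtain ⟨i, hi⟩ := norm_eig h hH (w := w) hu huz hvu (by group)
  have hou : orderOf u = 5 := by
    have := f5
    refine orderOf_eq_prime (h.exp hu) ?_
    rintro rfl
    exact huz (one_mem _)
  have h1 := conj_iter h hi 4
  have h0 := conj_iter h hi 8
  rw [show w ^ 8 = 1 by rw [← hw, pow_orderOf_eq_one], one_mul, inv_one, mul_one] at h0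
  have h2 : i ^ 8 ≡ 1 [MOD 5] := by
    have h3 : u ^ (i ^ 8) = u ^ 1 := by rw [← h0, pow_one]
    rw [pow_eq_pow_iff_modEq, hou] at h3
    exact h3
  have h3 : (i ^ 4) % 5 = 1 := by
    have h4 : (i ^ 8) % 5 = 1 := h2
    rw [Nat.pow_mod] at h4 ⊢
    have h5 : i % 5 < 5 := Nat.mod_lt _ (by norm_num)
    interval_cases hi5 : i % 5 <;> revert h4 <;> decide
  rw [← Nat.mod_add_div (i ^ 4) 5, h3, pow_add, pow_mul, h.exp hu, one_pow, pow_one, mul_one] at h1
  have h6 : orderOf (w ^ 4) = 2 := by rw [orderOf_pow, hw]; norm_num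
  have h5 := free h hH hu huz (w := w ^ 4) (by rw [mul_inv_eq_iff_eq_mul] at h1; exact h1) (by rw [h6]; norm_num)
  rw [h5, orderOf_one] at h6
  norm_num at h6

/-- **at most 150 elements of order 4** -/
theorem card_four (hH : Nat.card H = 3000) : Nat.card {v : H // orderOf v = 4} ≤ 150 := by
  classical
  choose! U hU hUz hUe using fun (v : H) (hv : orderOf v = 4) => eig h hH hv
  choose! k hk using fun (u : H) (hu : u ∈ PP x y z ∧ u ∉ zpowers z) => h.conj_y hu.1 hu.2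
  let g0 : H → H := fun u => if hu : ∃ g : H, g * u * g⁻¹ = u ^ 2 then hu.choose else 1
  have hg0 : ∀ u g : H, g * u * g⁻¹ = u ^ 2 → g0 u * u * (g0 u)⁻¹ = u ^ 2 := by
    intro u g hg
    have hu : ∃ g : H, g * u * g⁻¹ = u ^ 2 := ⟨g, hg⟩
    simp only [g0, dif_pos hu]
    exact hu.choose_spec
  have zc : ∀ (g c : H), c ∈ zpowers z → g * c = c * g := by
    rintro g c hc
    obtain ⟨n, rfl⟩ := mem_zpowers_iff.1 hc
    exact (h.toLoc.zcomm g).zpow_right n
  have hpow : ∀ (v : H), orderOf v = 4 → ∀ (c : H), c ∈ zpowers z → ∀ n : ℕ,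
      (v * c) * (U v) ^ n * (v * c)⁻¹ = ((U v) ^ n) ^ 2 := by
    intro v hv c hc n
    calc (v * c) * (U v) ^ n * (v * c)⁻¹ = v * (c * (U v) ^ n) * c⁻¹ * v⁻¹ := by group
      _ = v * ((U v) ^ n * c) * c⁻¹ * v⁻¹ := by rw [zc _ c hc]
      _ = v * (U v) ^ n * v⁻¹ := by group
      _ = (v * U v * v⁻¹) ^ n := by rw [conj_pow]
      _ = _ := by rw [hUe v hv, ← pow_mul, ← pow_mul, mul_comm]
  have hmem : ∀ (v : H), orderOf v = 4 → ∀ j : Fin 4, (U v) ^ ((j : ℕ) + 1) ∈ PP x y z ∧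
      (U v) ^ ((j : ℕ) + 1) ∉ zpowers z := by
    intro v hv j
    refine ⟨pow_mem (hU v hv) _, not_mem_pow h (hU v hv) (hUz v hv) ?_⟩
    fin_cases j <;> norm_num
  let F : {v : H // orderOf v = 4} × zpowers z × Fin 4 →
      ↥((PP x y z : Set H) \ (zpowers z : Set H)) × ↥(centralizer ({y} : Set H)) := fun p =>
    (⟨(U p.1) ^ ((p.2.2 : ℕ) + 1), hmem p.1 p.1.2 p.2.2⟩,
      ⟨(k ((U p.1) ^ ((p.2.2 : ℕ) + 1)))⁻¹ * (g0 ((U p.1) ^ ((p.2.2 : ℕ) + 1)))⁻¹ * (p.1 * p.2.1) *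
        k ((U p.1) ^ ((p.2.2 : ℕ) + 1)), by
      obtain ⟨u, hu⟩ : ∃ u, u = (U p.1) ^ ((p.2.2 : ℕ) + 1) := ⟨_, rfl⟩
      rw [← hu]
      have h1 : k u * y * (k u)⁻¹ = u := by
        rw [hu]
        exact hk _ (hmem p.1 p.1.2 p.2.2)
      have h2 : ((p.1 : H) * (p.2.1 : H)) * u * ((p.1 : H) * (p.2.1 : H))⁻¹ = u ^ 2 := by
        rw [hu]
        exact hpow p.1 p.1.2 p.2.1 p.2.1.2 _
      have h3 := hg0 u _ h2
      obtain ⟨w, hw⟩ : ∃ w, w = (p.1 : H) * (p.2.1 : H) := ⟨_, rfl⟩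
      rw [← hw] at h2 ⊢
      have h4 : (g0 u)⁻¹ * w * u = u * ((g0 u)⁻¹ * w) := by
        have h5 : w * u = u ^ 2 * w := by rw [← h2]; group
        have h6 : g0 u * u = u ^ 2 * g0 u := by rw [← h3]; group
        have h7 : (g0 u)⁻¹ * u ^ 2 = u * (g0 u)⁻¹ := by
          rw [inv_mul_eq_iff_eq_mul, ← mul_assoc, h6, mul_inv_cancel_right]
        rw [mul_assoc, h5, ← mul_assoc, h7, mul_assoc]
      rw [mem_centralizer_singleton_iff]
      have h9 : y = (k u)⁻¹ * u * k u := by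
        have h10 : (k u)⁻¹ * (k u * y * (k u)⁻¹) * k u = (k u)⁻¹ * u * k u := by rw [h1]
        rw [← h10]
        group
      calc (k u)⁻¹ * (g0 u)⁻¹ * w * k u * y = (k u)⁻¹ * (g0 u)⁻¹ * w * k u * ((k u)⁻¹ * u * k u) := by rw [← h9]
        _ = (k u)⁻¹ * ((g0 u)⁻¹ * w * u) * k u := by group
        _ = (k u)⁻¹ * (u * ((g0 u)⁻¹ * w)) * k u := by rw [h4]
        _ = ((k u)⁻¹ * u * k u) * ((k u)⁻¹ * (g0 u)⁻¹ * w * k u) := by group
        _ = _ := by rw [← h9]⟩)
  have hF : Function.Injective F := by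
    rintro ⟨⟨v, hv⟩, ⟨c, hc⟩, j⟩ ⟨⟨v', hv'⟩, ⟨c', hc'⟩, j'⟩ he
    have h1 : (U v) ^ ((j : ℕ) + 1) = (U v') ^ ((j' : ℕ) + 1) := congrArg Subtype.val (congrArg Prod.fst he)
    have h2 : (k ((U v) ^ ((j : ℕ) + 1)))⁻¹ * (g0 ((U v) ^ ((j : ℕ) + 1)))⁻¹ * (v * c) * k ((U v) ^ ((j : ℕ) + 1)) =
      (k ((U v') ^ ((j' : ℕ) + 1)))⁻¹ * (g0 ((U v') ^ ((j' : ℕ) + 1)))⁻¹ * (v' * c') * k ((U v') ^ ((j' : ℕ) + 1)) :=
      congrArg Subtype.val (congrArg Prod.snd he)
    rw [h1] at h2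
    have h3 : v * c = v' * c' := by
      have h4 := mul_left_cancel (mul_right_cancel h2)
      exact h4
    have h5 : v' = v * (c * c'⁻¹) := by
      rw [← mul_assoc, h3]; group
    have h6 : c * c'⁻¹ ∈ zpowers z := mul_mem hc (inv_mem hc')
    have h7 : (c * c'⁻¹) ^ 4 = 1 := by
      have h8 : v' ^ 4 = v ^ 4 * (c * c'⁻¹) ^ 4 := by
        rw [h5]
        exact (show Commute v (c * c'⁻¹) from zc _ _ h6).mul_pow 4
      rw [show v' ^ 4 = 1 by rw [← hv', pow_orderOf_eq_one], show v ^ 4 = 1 by rw [← hv, pow_orderOf_eq_one],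
        one_mul] at h8
      exact h8.symm
    have h8 : (c * c'⁻¹) ^ 5 = 1 := h.toSit.c_pow h6
    have h9 : c * c'⁻¹ = 1 := by
      rw [pow_succ, h7, one_mul] at h8
      exact h8
    have hcc : c = c' := mul_inv_eq_one.1 h9
    have hvv : v = v' := by rw [h5, h9, mul_one]
    subst hcc hvv
    have hou : orderOf (U v) = 5 := by
      have := f5
      refine orderOf_eq_prime (h.exp (hU v hv)) ?_
      intro h10
      exact hUz v hv (by rw [h10]; exact one_mem _)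
    have hj : j = j' := by
      have h10 := pow_eq_pow_iff_modEq.1 h1
      rw [hou] at h10
      have h11 : ((j : ℕ) + 1) % 5 = ((j' : ℕ) + 1) % 5 := h10
      apply Fin.ext
      have := j.2
      have := j'.2
      omega
    subst hj
    rfl
  have h1 := Nat.card_le_card_of_injective F hF
  rw [Nat.card_prod, Nat.card_prod, Nat.card_prod, Nat.card_zpowers, h.oz, Nat.card_fin, cent_y h hH] at h1
  have h2 : Nat.card ↥((PP x y z : Set H) \ (zpowers z : Set H)) = 120 := ncard_PZ h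
  rw [h2] at h1
  omega

/-- commuting involutions are equal -/
theorem inv_unique (hH : Nat.card H = 3000) {t t' : H} (ht : orderOf t = 2) (ht' : orderOf t' = 2)
    (hc : t * t' = t' * t) : t = t' := by
  by_contra hne
  have htt : t * t = 1 := by rw [← pow_two, ← ht, pow_orderOf_eq_one]
  have htt' : t' * t' = 1 := by rw [← pow_two, ← ht', pow_orderOf_eq_one]
  have hti : t⁻¹ = t := inv_eq_of_mul_eq_one_left htt
  have hti' : t'⁻¹ = t' := inv_eq_of_mul_eq_one_left htt'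
  have h1 : orderOf (t * t') = 2 := by
    have : Fact (Nat.Prime 2) := ⟨Nat.prime_two⟩
    refine orderOf_eq_prime ?_ ?_
    · rw [(show Commute t t' from hc).mul_pow, pow_two, pow_two, htt, htt', mul_one]
    · intro h2
      apply hne
      rw [← hti']
      exact eq_inv_of_mul_eq_one_left h2
  have hy := h.toLoc.yP
  have h2 := inv_mod h hH h1 hy
  have h3 := inv_mod h hH ht (h.P_norm t' hy)
  have h4 := inv_mod h hH ht' hy
  -- `(t t') y (t t')⁻¹ = t (t' y t'⁻¹) t⁻¹`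
  have h5 : t * t' * y * (t * t')⁻¹ = t * (t' * y * t'⁻¹) * t⁻¹ := by group
  rw [h5] at h2
  have h6 : y * (t * (t' * y * t'⁻¹) * t⁻¹) * (t' * y * t'⁻¹ * (t * (t' * y * t'⁻¹) * t⁻¹))⁻¹ * (y * (t' * y * t'⁻¹)) ∈
      zpowers z := mul_mem (mul_mem h2 (inv_mem h3)) h4
  obtain ⟨a, ha⟩ : ∃ a, a = t' * y * t'⁻¹ := ⟨_, rfl⟩
  rw [← ha] at h6
  have h7 : y * (t * a * t⁻¹) * (a * (t * a * t⁻¹))⁻¹ * (y * a) = y * (a⁻¹ * y * a) := by group
  rw [h7] at h6
  have haP : a ∈ PP x y z := by rw [ha]; exact h.P_norm t' hy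
  obtain ⟨k, hk⟩ := commP h hy haP
  have h8 : y * (a⁻¹ * y * a) = y ^ 2 * z ^ k := by
    rw [mul_assoc a⁻¹, hk, pow_two]
    group
  rw [h8] at h6
  have h9 : y ^ 2 ∈ zpowers z := by
    have := mul_mem h6 (zpow_mem (mem_zpowers z) (-k))
    rwa [mul_assoc, ← zpow_add, add_neg_cancel, zpow_zero, mul_one] at this
  exact not_mem_pow h hy (y_not_mem h) (by norm_num) h9

/-- all involutions are conjugate -/
theorem conj_inv (hH : Nat.card H = 3000) {t t' : H} (ht : orderOf t = 2) (ht' : orderOf t' = 2) :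
    ∃ g : H, g * t * g⁻¹ = t' := by
  have htt : t * t = 1 := by rw [← pow_two, ← ht, pow_orderOf_eq_one]
  have htt' : t' * t' = 1 := by rw [← pow_two, ← ht', pow_orderOf_eq_one]
  have hti : t⁻¹ = t := inv_eq_of_mul_eq_one_left htt
  have hti' : t'⁻¹ = t' := inv_eq_of_mul_eq_one_left htt'
  obtain ⟨r, hr⟩ : ∃ r, r = t' * t := ⟨_, rfl⟩
  have hrt : t * r * t⁻¹ = r⁻¹ := by
    rw [hr, mul_inv_rev, hti, hti']
    calc t * (t' * t) * t = t * t' * (t * t) := by group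
      _ = _ := by rw [htt, mul_one]
  have hrt' : t' * r * t'⁻¹ = r⁻¹ := by
    rw [hr, mul_inv_rev, hti, hti']
    calc t' * (t' * t) * t' = (t' * t') * t * t' := by group
      _ = _ := by rw [htt', one_mul]
  rcases Nat.even_or_odd (orderOf r) with ⟨m, hm⟩ | ⟨m, hm⟩
  · -- the central involution
    have hpos := orderOf_pos r
    have h1 : orderOf (r ^ m) = 2 := by
      rw [orderOf_pow_of_dvd (by omega) ⟨2, by omega⟩, hm, ← two_mul]
      exact Nat.mul_div_cancel _ (by omega)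
    have h2 : (r ^ m)⁻¹ = r ^ m := by
      rw [inv_eq_iff_mul_eq_one, ← pow_add, ← hm, pow_orderOf_eq_one]
    have h3 : t * r ^ m * t⁻¹ = r ^ m := by rw [← conj_pow, hrt, inv_pow, h2]
    have h4 : t' * r ^ m * t'⁻¹ = r ^ m := by rw [← conj_pow, hrt', inv_pow, h2]
    rw [mul_inv_eq_iff_eq_mul] at h3 h4
    have h5 := inv_unique h hH ht h1 h3
    have h6 := inv_unique h hH ht' h1 h4
    exact ⟨1, by rw [one_mul, inv_one, mul_one, h5, h6]⟩
  · refine ⟨r ^ (m + 1), ?_⟩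
    have h1 : r ^ (m + 1) * t = t * (r ^ (m + 1))⁻¹ := by
      rw [← inv_pow, ← hrt, conj_pow]
      calc r ^ (m + 1) * t = (t * t) * (r ^ (m + 1) * t) := by rw [htt, one_mul]
        _ = t * (t * r ^ (m + 1) * t) := by group
        _ = _ := by rw [hti]
    have h2 : r ^ (m + 1) * t * (r ^ (m + 1))⁻¹ = t * (r ^ (2 * m + 1))⁻¹ * r⁻¹ := by
      rw [h1]
      have : r ^ (2 * m + 1) * r = r ^ (m + 1) * r ^ (m + 1) := by rw [← pow_succ, ← pow_add]; congr 1; ring
      calc t * (r ^ (m + 1))⁻¹ * (r ^ (m + 1))⁻¹ = t * (r ^ (m + 1) * r ^ (m + 1))⁻¹ := by group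
        _ = t * (r ^ (2 * m + 1) * r)⁻¹ := by rw [this]
        _ = t * (r * r ^ (2 * m + 1))⁻¹ := by rw [← pow_succ, ← pow_succ']
        _ = _ := by group
    rw [h2, ← hm, pow_orderOf_eq_one, inv_one, mul_one, hr, mul_inv_rev, hti, hti']
    rw [← mul_assoc, htt, one_mul]

/-- **the centralizer of an involution** -/
theorem card_cent_inv (hH : Nat.card H = 3000) {t : H} (ht : orderOf t = 2) :
    Nat.card ↥(centralizer ({t} : Set H)) = 120 := by
  obtain ⟨g, rfl⟩ := conj_inv h hH h.os ht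
  rw [card_cent_conj]
  exact h.orbit.2

/-- `C(u) = ⟨u, z⟩` -/
theorem mem_cent (hH : Nat.card H = 3000) {u w : H} (hu : u ∈ PP x y z) (huz : u ∉ zpowers z) (hw : w * u = u * w) :
    ∃ i j : ℤ, w = u ^ i * z ^ j := by
  have hou : orderOf u = 5 := by
    have := f5
    refine orderOf_eq_prime (h.exp hu) ?_
    rintro rfl
    exact huz (one_mem _)
  have hcuz : Commute u z := h.toLoc.zcomm u
  let A : Subgroup H := zpowers u ⊔ zpowers z
  have hZ := h.core.toSit.normalZ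
  have hA : Nat.card A = 25 := by
    have hd : Disjoint (zpowers u) (zpowers z) := by
      rw [Subgroup.disjoint_def]
      intro a ha hb
      have := f5
      by_contra hne
      obtain ⟨n, rfl⟩ := mem_zpowers_iff.1 ha
      apply huz
      have h6 : ¬ (5 : ℤ) ∣ n := by
        intro h7
        apply hne
        obtain ⟨m, rfl⟩ := h7
        rw [zpow_mul]
        have : u ^ (5 : ℤ) = 1 := by
          have := h.exp hu
          exact_mod_cast this
        rw [this, one_zpow]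
      have h7 : IsCoprime n (5 : ℤ) := by
        rw [isCoprime_comm]
        exact ((Int.prime_iff_natAbs_prime.2 (by norm_num : Nat.Prime (5 : ℤ).natAbs)).coprime_iff_not_dvd).2 h6
      obtain ⟨a', b', hab⟩ := h7
      have h8 : u = (u ^ n) ^ a' * (u ^ (5 : ℤ)) ^ b' := by
        rw [← zpow_mul, ← zpow_mul, ← zpow_add, mul_comm n, mul_comm (5 : ℤ), hab, zpow_one]
      have h9 : u ^ (5 : ℤ) = 1 := by
        have := h.exp hu
        exact_mod_cast this
      rw [h9, one_zpow, mul_one] at h8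
      rw [h8]
      exact zpow_mem hb a'
    have e := (Subgroup.isComplement'_of_disjoint_and_mul_eq_univ (H := (zpowers u).subgroupOf A)
      (K := (zpowers z).subgroupOf A) ?_ ?_).card_mul_card
    · rw [← e, Nat.card_congr (subgroupOfEquivOfLe (le_sup_left : zpowers u ≤ A)).toEquiv,
        Nat.card_congr (subgroupOfEquivOfLe (le_sup_right : zpowers z ≤ A)).toEquiv, Nat.card_zpowers,
        Nat.card_zpowers, hou, h.oz]
    · rw [Subgroup.disjoint_def]
      intro a ha hb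
      exact Subtype.ext ((Subgroup.disjoint_def.1 hd) ha hb)
    · ext a
      refine ⟨fun _ => Set.mem_univ _, fun _ => ?_⟩
      have h6 := a.2
      obtain ⟨b, hb, c, hc, hbc⟩ := (mem_sup_of_normal_right).1 h6
      exact ⟨⟨b, (le_sup_left : zpowers u ≤ A) hb⟩, hb, ⟨c, (le_sup_right : zpowers z ≤ A) hc⟩, hc, Subtype.ext hbc⟩
  have hAC : A = centralizer ({u} : Set H) := by
    apply Subgroup.eq_of_le_of_card_ge
    · refine sup_le ?_ ?_
      · rw [zpowers_le]
        exact mem_centralizer_singleton_iff.2 rfl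
      · rw [zpowers_le]
        exact mem_centralizer_singleton_iff.2 hcuz.symm.eq
    · rw [hA, cent25 h hH hu huz]
  have hmem : w ∈ A := by
    rw [hAC]
    exact mem_centralizer_singleton_iff.2 hw
  obtain ⟨b, hb, c, hc, hbc⟩ := (mem_sup_of_normal_right).1 hmem
  obtain ⟨i, rfl⟩ := mem_zpowers_iff.1 hb
  obtain ⟨j, rfl⟩ := mem_zpowers_iff.1 hc
  exact ⟨i, j, hbc.symm⟩

/-- all elements of order 4 are conjugate -/
theorem conj_four (hH : Nat.card H = 3000) {v v' : H} (hv : orderOf v = 4) (hv' : orderOf v' = 4) :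
    ∃ g : H, g * v * g⁻¹ = v' := by
  obtain ⟨u, hu, huz, hvu⟩ := eig h hH hv
  obtain ⟨u', hu', huz', hvu'⟩ := eig h hH hv'
  obtain ⟨a, ha⟩ := h.conj_y hu huz
  obtain ⟨a', ha'⟩ := h.conj_y hu' huz'
  -- `b u b⁻¹ = u'`
  obtain ⟨b, hb⟩ : ∃ b, b * u * b⁻¹ = u' := ⟨a' * a⁻¹, by rw [← ha, ← ha']; group⟩
  obtain ⟨w, hw⟩ : ∃ w, w = b * v * b⁻¹ := ⟨_, rfl⟩
  have hw4 : w ^ 4 = 1 := by rw [hw, conj_pow, ← hv, pow_orderOf_eq_one, mul_one, mul_inv_cancel]
  have hv4 : v' ^ 4 = 1 := by rw [← hv', pow_orderOf_eq_one]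
  have hwu : w * u' * w⁻¹ = u' ^ 2 := by
    rw [hw, ← hb, conj_pow, ← hvu]
    group
  have h1 : (w⁻¹ * v') * u' = u' * (w⁻¹ * v') := by
    have h2 : v' * u' = u' ^ 2 * v' := by rw [← hvu']; group
    have h3 : w⁻¹ * u' ^ 2 = u' * w⁻¹ := by rw [← hwu]; group
    rw [mul_assoc, h2, ← mul_assoc, h3, mul_assoc]
  obtain ⟨i, j, hij⟩ := mem_cent h hH hu' huz' h1
  have hv'e : v' = w * (u' ^ i * z ^ j) := by rw [← hij]; group
  have zc : ∀ (g : H) (k : ℤ), g * z ^ k = z ^ k * g := fun g k => (h.toLoc.zcomm g).zpow_right k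
  -- conjugate `w` by a power of `u'`
  have hw3 : w⁻¹ * u' * w = u' ^ (3 : ℤ) := by
    have h2 : w * (u' ^ (3 : ℤ)) * w⁻¹ = u' := by
      rw [← conj_zpow, hwu, ← zpow_natCast, ← zpow_mul]
      have h3 : u' ^ (((2 : ℕ) : ℤ) * 3) = u' ^ (5 : ℤ) * u' := by
        rw [← zpow_add_one]; norm_num
      rw [h3]
      have h4 : u' ^ (5 : ℤ) = 1 := by
        have := h.exp hu'
        exact_mod_cast this
      rw [h4, one_mul]
    calc w⁻¹ * u' * w = w⁻¹ * (w * (u' ^ (3 : ℤ)) * w⁻¹) * w := by rw [h2]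
      _ = _ := by group
  have hconj : ∀ k : ℤ, u' ^ k * w * (u' ^ k)⁻¹ = w * u' ^ (2 * k) := by
    intro k
    have h2 : w⁻¹ * u' ^ k * w = u' ^ (3 * k) := by
      have h3 : w⁻¹ * u' ^ k * w⁻¹⁻¹ = (w⁻¹ * u' * w⁻¹⁻¹) ^ k := conj_zpow.symm
      rw [inv_inv] at h3
      rw [h3, hw3, ← zpow_mul]
    calc u' ^ k * w * (u' ^ k)⁻¹ = w * (w⁻¹ * u' ^ k * w) * (u' ^ k)⁻¹ := by group
      _ = w * (u' ^ (3 * k) * u' ^ (-k)) := by rw [h2, zpow_neg]; group
      _ = _ := by rw [← zpow_add]; congr 2; ring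
  -- `k = 3 i`: `u' ^ (6 i) = u' ^ i`
  have h6 : u' ^ (2 * (3 * i)) = u' ^ i := by
    have h4 : u' ^ (5 : ℤ) = 1 := by
      have := h.exp hu'
      exact_mod_cast this
    have h5 : (2 * (3 * i) : ℤ) = 5 * i + i := by ring
    rw [h5, zpow_add, zpow_mul, h4, one_zpow, one_mul]
  have h7 : u' ^ (3 * i) * w * (u' ^ (3 * i))⁻¹ = w * u' ^ i := by rw [hconj, h6]
  have h8 : v' = (w * u' ^ i) * z ^ j := by rw [hv'e]; group
  have h9 : (w * u' ^ i) ^ 4 = 1 := by
    rw [← h7, conj_pow, hw4, mul_one, mul_inv_cancel]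
  have h10 : z ^ (j * 4) = 1 := by
    have h11 : v' ^ 4 = (w * u' ^ i) ^ 4 * (z ^ j) ^ 4 := by
      rw [h8]
      exact (show Commute (w * u' ^ i) (z ^ j) from zc _ _).mul_pow 4
    rw [hv4, h9, one_mul] at h11
    rw [zpow_mul]
    exact_mod_cast h11.symm
  have h11 : z ^ j = 1 := by
    rw [z_pow_eq_one h] at h10 ⊢
    omega
  rw [h11, mul_one] at h8
  refine ⟨u' ^ (3 * i) * b, ?_⟩
  rw [h8, ← h7, hw]
  group

/-- **the centralizer of an element of order 4** -/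
theorem card_cent_four (hH : Nat.card H = 3000) {v : H} (hv : orderOf v = 4) :
    Nat.card ↥(centralizer ({v} : Set H)) = 20 := by
  obtain ⟨u, hu, huz, hvu⟩ := eig h hH hv
  have hou : orderOf u = 5 := by
    have := f5
    refine orderOf_eq_prime (h.exp hu) ?_
    rintro rfl
    exact huz (one_mem _)
  -- the order is at least 20
  have h20 : 20 ∣ Nat.card ↥(centralizer ({v} : Set H)) := by
    have h1 : 4 ∣ Nat.card ↥(centralizer ({v} : Set H)) := by
      rw [← hv]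
      exact Subgroup.orderOf_dvd_natCard _ (mem_centralizer_singleton_iff.2 rfl)
    have h2 : 5 ∣ Nat.card ↥(centralizer ({v} : Set H)) := by
      rw [← h.oz]
      exact Subgroup.orderOf_dvd_natCard _ (mem_centralizer_singleton_iff.2 (h.toLoc.zcomm v).symm.eq)
    exact (by norm_num : Nat.Coprime 4 5).mul_dvd_of_dvd_of_dvd h1 h2
  -- and at most 20
  have hle : Nat.card ↥(centralizer ({v} : Set H)) ≤ 20 := by
    classical
    have hi : ∀ w : ↥(centralizer ({v} : Set H)), ∃ i : ℕ, (w : H) * u * (w : H)⁻¹ = u ^ i := fun w =>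
      norm_eig h hH hu huz hvu (mem_centralizer_singleton_iff.1 w.2)
    choose I hI using hi
    have hI5 : ∀ w, I w % 5 ≠ 0 := by
      intro w hw
      have h1 := hI w
      rw [← Nat.mod_add_div (I w) 5, hw, pow_add, pow_mul, h.exp hu, one_pow, pow_zero, mul_one, conj_eq_one_iff] at h1
      exact huz (by rw [h1]; exact one_mem _)
    -- two elements with the same exponent differ by an element of `⟨z⟩`
    have hdiff : ∀ w w' : ↥(centralizer ({v} : Set H)), I w % 5 = I w' % 5 → (w : H)⁻¹ * w' ∈ zpowers z := by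
      intro w w' hww
      have h1 : u ^ I w = u ^ I w' := by
        rw [← Nat.mod_add_div (I w) 5, ← Nat.mod_add_div (I w') 5, hww, pow_add, pow_add, pow_mul, pow_mul,
          h.exp hu, one_pow, one_pow]
      have h2 : ((w : H)⁻¹ * w') * u = u * ((w : H)⁻¹ * w') := by
        have h3 : (w' : H) * u = u ^ I w' * w' := by rw [← hI]; group
        have h4 : (w : H)⁻¹ * u ^ I w = u * (w : H)⁻¹ := by rw [← hI]; group
        rw [mul_assoc, h3, ← h1, ← mul_assoc, h4, mul_assoc]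
      obtain ⟨i, j, hij⟩ := mem_cent h hH hu huz h2
      -- it commutes with `v`
      have h5 : v * (u ^ i * z ^ j) * v⁻¹ = u ^ i * z ^ j := by
        rw [← hij, mul_inv_eq_iff_eq_mul]
        have h6 : (w : H) * v = v * w := mem_centralizer_singleton_iff.1 w.2
        have h7 : (w' : H) * v = v * w' := mem_centralizer_singleton_iff.1 w'.2
        have h8 : v * (w : H)⁻¹ = (w : H)⁻¹ * v := by
          rw [eq_inv_mul_iff_mul_eq, ← mul_assoc, h6, mul_inv_cancel_right]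
        calc v * ((w : H)⁻¹ * w') = (v * (w : H)⁻¹) * w' := by group
          _ = (w : H)⁻¹ * v * w' := by rw [h8]
          _ = (w : H)⁻¹ * (v * w') := by group
          _ = _ := by rw [← h7]; group
      have zc : ∀ (g : H) (k : ℤ), g * z ^ k = z ^ k * g := fun g k => (h.toLoc.zcomm g).zpow_right k
      have h6 : v * (u ^ i * z ^ j) * v⁻¹ = (u ^ i) ^ 2 * z ^ j := by
        calc v * (u ^ i * z ^ j) * v⁻¹ = v * u ^ i * (z ^ j * v⁻¹) := by group
          _ = v * u ^ i * (v⁻¹ * z ^ j) := by rw [zc v⁻¹ j]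
          _ = (v * u ^ i * v⁻¹) * z ^ j := by group
          _ = _ := by
            rw [← conj_zpow, hvu, ← zpow_natCast u 2, ← zpow_mul, ← zpow_natCast (u ^ i) 2, ← zpow_mul, mul_comm]
      rw [h6] at h5
      have h7 := mul_right_cancel h5
      rw [pow_two] at h7
      have h8 : u ^ i = 1 := mul_eq_left.1 h7
      rw [hij, h8, one_mul]
      exact zpow_mem (mem_zpowers z) j
    -- injection into `{1, 2, 3, 4} × ⟨z⟩`
    let rep : Fin 5 → H := fun m => if hm : ∃ w : ↥(centralizer ({v} : Set H)), I w % 5 = m then (hm.choose : H) else 1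
    have hrep : ∀ w : ↥(centralizer ({v} : Set H)), (rep ⟨I w % 5, Nat.mod_lt _ (by norm_num)⟩)⁻¹ * w ∈ zpowers z := by
      intro w
      have hm : ∃ w' : ↥(centralizer ({v} : Set H)), I w' % 5 = ((⟨I w % 5, Nat.mod_lt _ (by norm_num)⟩ : Fin 5) : ℕ) :=
        ⟨w, rfl⟩
      simp only [rep, dif_pos hm]
      exact hdiff _ _ hm.choose_spec
    let F : ↥(centralizer ({v} : Set H)) → {m : Fin 5 // m ≠ 0} × zpowers z := fun w =>
      (⟨⟨I w % 5, Nat.mod_lt _ (by norm_num)⟩, fun h0 => hI5 w (congrArg Fin.val h0)⟩, ⟨_, hrep w⟩)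
    have hF : Function.Injective F := by
      intro w w' he
      have h1 : (⟨I w % 5, Nat.mod_lt _ (by norm_num)⟩ : Fin 5) = ⟨I w' % 5, Nat.mod_lt _ (by norm_num)⟩ :=
        congrArg Subtype.val (congrArg Prod.fst he)
      have h2 : (rep ⟨I w % 5, Nat.mod_lt _ (by norm_num)⟩)⁻¹ * (w : H) =
          (rep ⟨I w' % 5, Nat.mod_lt _ (by norm_num)⟩)⁻¹ * (w' : H) := congrArg Subtype.val (congrArg Prod.snd he)
      rw [h1] at h2
      exact Subtype.ext (mul_left_cancel h2)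
    have h1 := Nat.card_le_card_of_injective F hF
    rw [Nat.card_prod, Nat.card_zpowers, h.oz] at h1
    have h2 : Nat.card {m : Fin 5 // m ≠ 0} = 4 := by
      rw [Nat.card_eq_fintype_card]
      decide
    rw [h2] at h1
    exact h1
  exact Nat.le_antisymm hle (Nat.le_of_dvd Nat.card_pos h20)

end loc

end Cfsg.Agent.H552.ThFive
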